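import Cfsg.Agent.H985.VZ.Cells_m3
import Cfsg.Agent.H150.Toral.Mackey
import Cfsg.Agent.OddOrderCharacters.IndRes
import Cfsg.Agent.OddOrderCharacters.PivotCoherence
import Cfsg.Agent.Nodes.LeviDec
import Cfsg.Agent.FastGrp
import Cfsg.Agent.Prune
set_option linter.all false
prune_inst 0x7f00000000000000000000000000000000000000000000000000000000000000000000000000000000000000000000000000000000000000000000000000000000000000000000000000000000000000003fffffffffffffffffffffffffffbeffbdffffffff
open scoped Cfsg.Agent.FastGrp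

-- part: H898/VZ/Gram
section
/-!
# S4842, toolkit section 6: the value at an elliptic element, abstract part (helper898)

* `pc H` : the permutation character on the cosets of `H`; `pc_inner`, `pc_rep`, `pc_zero`;
* `gram` : the certificate theorem.
-/

set_option autoImplicit false
set_option linter.unusedSectionVars false

open Cfsg

namespace Cfsg.Agent.H898.VZ

open Cfsg.Agent.H985.VZ Cfsg.Agent.Characters.Core Module Cfsg.Agent.OddOrderCharacters.PivotCoherence
open scoped ComplexConjugate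

universe u v

section perm

variable {G : Type u} [Group G] [Fintype G]

/-- the permutation character on the cosets of `H` -/
noncomputable def pc (H : Subgroup G) : G → ℂ := indFun H (fun x => (((1 : H →* ℂˣ) x : ℂˣ) : ℂ))

theorem pc_isCharacter (H : Subgroup G) : IsCharacter G (pc H) := by
  refine Cfsg.Agent.S0148.result H _ ?_
  have h1 : (fun x : H => (((1 : H →* ℂˣ) x : ℂˣ) : ℂ)) = 1 := by
    funext x
    simp
  rw [h1]
  exact isCharacter_one

theorem pc_inner (A B : Subgroup G) :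
    classInner (pc A) (pc B) = (Nat.card (DoubleCoset.Quotient (A : Set G) (B : Set G)) : ℂ) := by
  have : Finite (DoubleCoset.Quotient (A : Set G) (B : Set G)) := by
    unfold DoubleCoset.Quotient
    infer_instance
  have h1 := Cfsg.Agent.H150.Toral.mackey A B (fun i : DoubleCoset.Quotient (A : Set G) (B : Set G) => i.out)
    (fun g => by
      refine ⟨DoubleCoset.mk A B g, ?_⟩
      obtain ⟨a, b, ha, hb, e⟩ := DoubleCoset.mk_out_eq_mul A B g
      refine ⟨a⁻¹, inv_mem ha, b⁻¹, inv_mem hb, ?_⟩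
      rw [e]
      group)
    (fun i j a ha b hb e => by
      have h1 : DoubleCoset.mk A B i.out = DoubleCoset.mk A B j.out := by
        rw [DoubleCoset.eq]
        exact ⟨a, ha, b, hb, e⟩
      rwa [DoubleCoset.out_eq', DoubleCoset.out_eq'] at h1) 1 1
  unfold pc
  rw [h1]
  congr 1
  refine Nat.card_congr (Equiv.subtypeUnivEquiv fun i => ?_)
  intro a b _
  rfl

/-- Frobenius reciprocity for the permutation characters -/
theorem pc_rep {V : Type v} [AddCommGroup V] [Module ℂ V] [FiniteDimensional ℂ V] (ρ : Representation ℂ G V)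
    (H : Subgroup G) : classInner (pc H) ρ.character = (finrank ℂ (fx ρ H) : ℂ) := by
  classical
  have := Fintype.ofFinite H
  unfold pc
  rw [Cfsg.Agent.S0150.classInner_indFun H _ _ (fun g h => isCharacter_isClassFunction (isCharacter_of_rep ρ) g h)]
  have h1 := trace_el_eq ρ H 1
  rw [eig_one] at h1
  have h2 : (finrank ℂ (fx ρ H) : ℂ) = conj (finrank ℂ (fx ρ H) : ℂ) := by simp
  rw [h2, h1, classInner_def, map_mul, map_sum, map_inv₀, Complex.conj_natCast]
  congr 1
  refine Finset.sum_congr rfl fun x _ => ?_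
  simp

theorem pc_zero {H : Subgroup G} {t : G} (h : ∀ x : G, x * t * x⁻¹ ∉ H) : pc H t = 0 := by
  unfold pc
  rw [indFun_apply, Finset.sum_eq_zero, mul_zero]
  intro x _
  refine extendByZero_of_notMem _ _ ?_
  have := h x⁻¹
  rwa [inv_inv] at this

theorem pc_top (t : G) : pc (⊤ : Subgroup G) t = 1 := by
  unfold pc
  rw [indFun_apply, Finset.sum_congr rfl (g := fun _ => (1 : ℂ)) fun x _ => by
    rw [extendByZero_of_mem _ _ (Subgroup.mem_top _)]; rfl]
  rw [Finset.sum_const, Finset.card_univ, nsmul_eq_mul, mul_one, ← Nat.card_eq_fintype_card,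
    Nat.card_congr (Equiv.subtypeUnivEquiv fun x : G => Subgroup.mem_top x)]
  exact inv_mul_cancel₀ (by exact_mod_cast Nat.card_pos.ne')

end perm

section gram

variable {G : Type u} [Group G] [Fintype G] {ι κ : Type*} [Fintype ι] [DecidableEq ι] [Fintype κ] [DecidableEq κ]
  {P : ι → Subgroup G}

/-- the integral combinations -/
noncomputable def psi (P : ι → Subgroup G) (m : ι → ℤ) : G → ℂ := ∑ i, m i • pc (P i)

theorem psi_gen (m : ι → ℤ) : IsGeneralizedCharacter G (psi P m) :=
  isGeneralized_sum _ fun _ _ => isGeneralized_zsmul _ (isGeneralized_of_isCharacter (pc_isCharacter _))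

theorem psi_inner_left (m : ι → ℤ) (f : G → ℂ) : classInner (psi P m) f = ∑ i, (m i : ℂ) * classInner (pc (P i)) f := by
  unfold psi
  rw [classInner_sum_left]
  refine Finset.sum_congr rfl fun i _ => ?_
  rw [← Int.cast_smul_eq_zsmul ℂ, classInner_smul_left]

theorem psi_inner_right (m : ι → ℤ) (f : G → ℂ) : classInner f (psi P m) = ∑ i, (m i : ℂ) * classInner f (pc (P i)) := by
  unfold psi
  rw [classInner_sum_right]
  refine Finset.sum_congr rfl fun i _ => ?_
  rw [← Int.cast_smul_eq_zsmul ℂ, classInner_smul_right]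
  simp

theorem psi_apply (m : ι → ℤ) {t : G} {z : ι} (hz : P z = ⊤) (ht : ∀ i, i ≠ z → ∀ x, x * t * x⁻¹ ∉ P i) :
    psi P m t = m z := by
  unfold psi
  rw [Finset.sum_apply, Finset.sum_eq_single z]
  · rw [Pi.smul_apply, hz, pc_top]
    simp
  · intro i _ hi
    rw [Pi.smul_apply, pc_zero (ht i hi), smul_zero]
  · intro h
    exact absurd (Finset.mem_univ z) h

variable {g : ι → ι → ℤ} {m : κ → ι → ℤ} {c : ι → ℚ} {o z : ι}

/-- an irreducible constituent of `pc (P o)` is plus or minus one of the combinations -/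
theorem exists_psi (hg : ∀ i j, (Nat.card (DoubleCoset.Quotient (P i : Set G) (P j : Set G)) : ℤ) = g i j)
    (hm : ∀ a b, ∑ i, ∑ j, m a i * m b j * g i j = if a = b then 1 else 0)
    (hms : ∑ a, (∑ i, m a i * g i o) ^ 2 = g o o) {χ : G → ℂ} (hχ : IsIrrCharacter G χ)
    (hne : classInner (pc (P o)) χ ≠ 0) : ∃ a, χ = psi P (m a) ∨ χ = -psi P (m a) := by
  have hpg : ∀ i j, classInner (pc (P i)) (pc (P j)) = (g i j : ℂ) := by
    intro i j
    rw [pc_inner, ← hg i j]
    push_cast
    rfl
  have hon : ∀ a b, classInner (psi P (m a)) (psi P (m b)) = if a = b then 1 else 0 := by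
    intro a b
    rw [psi_inner_left]
    have h1 : ∑ i, (m a i : ℂ) * classInner (pc (P i)) (psi P (m b)) =
        ((∑ i, ∑ j, m a i * m b j * g i j : ℤ) : ℂ) := by
      push_cast
      refine Finset.sum_congr rfl fun i _ => ?_
      rw [psi_inner_right, Finset.mul_sum]
      refine Finset.sum_congr rfl fun j _ => ?_
      rw [hpg]
      ring
    rw [h1, hm]
    split_ifs <;> simp
  have hirr : ∀ a, IsIrrCharacter G (psi P (m a)) ∨ IsIrrCharacter G (-psi P (m a)) := fun a =>
    isIrr_of_generalized (psi_gen _) (by rw [hon a a, if_pos rfl])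
  by_contra hcon
  push Not at hcon
  -- `χ` is orthogonal to all of them
  have hort : ∀ a, classInner (psi P (m a)) χ = 0 := by
    intro a
    rcases hirr a with h | h
    · exact classInner_irr_ne h hχ (hcon a).1.symm
    · have h1 := classInner_irr_ne h hχ fun e => (hcon a).2 e.symm
      rw [classInner_neg_left, neg_eq_zero] at h1
      exact h1
  have hop : ∀ a, classInner (psi P (m a)) (pc (P o)) = ((∑ i, m a i * g i o : ℤ) : ℂ) := by
    intro a
    rw [psi_inner_left]
    push_cast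
    exact Finset.sum_congr rfl fun i _ => by rw [hpg]
  have hpo : ∀ a, classInner (pc (P o)) (psi P (m a)) = ((∑ i, m a i * g i o : ℤ) : ℂ) := by
    intro a
    rw [← classInner_conj_symm, hop]
    simp
  -- the difference vanishes
  have hf : pc (P o) - ∑ a, ((∑ i, m a i * g i o : ℤ) : ℂ) • psi P (m a) = 0 := by
    apply classInner_self_eq_zero
    have e1 : classInner (∑ a, ((∑ i, m a i * g i o : ℤ) : ℂ) • psi P (m a)) (pc (P o)) = (g o o : ℂ) := by
      rw [classInner_sum_left, ← hms, Int.cast_sum]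
      refine Finset.sum_congr rfl fun a _ => ?_
      rw [classInner_smul_left, hop, Int.cast_pow, pow_two]
    have e2 : classInner (pc (P o)) (∑ a, ((∑ i, m a i * g i o : ℤ) : ℂ) • psi P (m a)) = (g o o : ℂ) := by
      rw [← classInner_conj_symm, e1]
      simp
    have e3 : classInner (∑ a, ((∑ i, m a i * g i o : ℤ) : ℂ) • psi P (m a))
        (∑ a, ((∑ i, m a i * g i o : ℤ) : ℂ) • psi P (m a)) = (g o o : ℂ) := by
      rw [classInner_sum_left, ← hms, Int.cast_sum]
      refine Finset.sum_congr rfl fun a _ => ?_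
      rw [classInner_smul_left, classInner_sum_right, Finset.sum_eq_single a]
      · rw [classInner_smul_right, hon, if_pos rfl, Int.cast_pow, pow_two]
        simp
      · intro b _ hb
        rw [classInner_smul_right, hon, if_neg hb.symm, mul_zero]
      · intro h
        exact absurd (Finset.mem_univ a) h
    rw [classInner_sub_left, classInner_sub_right, classInner_sub_right, hpg, e1, e2, e3]
    ring
  apply hne
  rw [sub_eq_zero.1 hf, classInner_sum_left]
  refine Finset.sum_eq_zero fun a _ => ?_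
  rw [classInner_smul_left, hort, mul_zero]

/-- the value on a constituent of `pc (P o)` -/
theorem apply_irr (hz : P z = ⊤)
    (hg : ∀ i j, (Nat.card (DoubleCoset.Quotient (P i : Set G) (P j : Set G)) : ℤ) = g i j)
    (hm : ∀ a b, ∑ i, ∑ j, m a i * m b j * g i j = if a = b then 1 else 0)
    (hms : ∑ a, (∑ i, m a i * g i o) ^ 2 = g o o)
    (hc : ∀ j, ∑ i, c i * g i j = if j = z then 1 else 0) {t : G} (ht : ∀ i, i ≠ z → ∀ x, x * t * x⁻¹ ∉ P i)
    {χ : G → ℂ} (hχ : IsIrrCharacter G χ) (hne : classInner (pc (P o)) χ ≠ 0) :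
    χ t = ∑ i, (c i : ℂ) * classInner (pc (P i)) χ := by
  have hpg : ∀ i j, classInner (pc (P i)) (pc (P j)) = (g i j : ℂ) := by
    intro i j
    rw [pc_inner, ← hg i j]
    push_cast
    rfl
  have key : ∀ a, psi P (m a) t = ∑ i, (c i : ℂ) * classInner (pc (P i)) (psi P (m a)) := by
    intro a
    rw [psi_apply (m a) hz ht]
    have h1 : ∑ i, (c i : ℂ) * classInner (pc (P i)) (psi P (m a)) = ∑ j, (m a j : ℂ) * ((∑ i, c i * g i j : ℚ) : ℂ) := by
      have h2 : ∀ i, (c i : ℂ) * classInner (pc (P i)) (psi P (m a)) = ∑ j, (m a j : ℂ) * ((c i : ℂ) * (g i j : ℂ)) := by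
        intro i
        rw [psi_inner_right, Finset.mul_sum]
        refine Finset.sum_congr rfl fun j _ => ?_
        rw [hpg]
        ring
      rw [Finset.sum_congr rfl fun i _ => h2 i, Finset.sum_comm]
      refine Finset.sum_congr rfl fun j _ => ?_
      rw [← Finset.mul_sum]
      push_cast
      rfl
    rw [h1, Finset.sum_eq_single z]
    · rw [hc, if_pos rfl]
      simp
    · intro j _ hj
      rw [hc, if_neg hj]
      simp
    · intro h
      exact absurd (Finset.mem_univ z) h
  obtain ⟨a, rfl | rfl⟩ := exists_psi hg hm hms hχ hne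
  · exact key a
  · rw [Pi.neg_apply, key a, ← Finset.sum_neg_distrib]
    refine Finset.sum_congr rfl fun i _ => ?_
    rw [classInner_neg_right, mul_neg]

end gram

section rep

variable {G : Type u} [Group G] {V : Type v} [AddCommGroup V] [Module ℂ V] [FiniteDimensional ℂ V]
  {σ : Representation ℂ G V}

/-- an additive function of the character is decided by the irreducible subrepresentations -/
theorem eq_of_irr [Finite G] (F F' : (G → ℂ) → ℂ) (hF : ∀ a b, F (a + b) = F a + F b)
    (hF' : ∀ a b, F' (a + b) = F' a + F' b) (k : ℕ) : ∀ U : Subrepresentation σ,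
    finrank ℂ U.toSubmodule ≤ k → (∀ N : Subrepresentation σ, N.toSubmodule ≤ U.toSubmodule →
      N.toRepresentation.IsIrreducible → F N.toRepresentation.character = F' N.toRepresentation.character) →
      F U.toRepresentation.character = F' U.toRepresentation.character := by
  classical
  have h00 : F 0 = 0 := by have := hF 0 0; rw [add_zero] at this; simpa using this
  have h01 : F' 0 = 0 := by have := hF' 0 0; rw [add_zero] at this; simpa using this
  have hzero : ∀ U : Subrepresentation σ, U.toSubmodule = ⊥ → F U.toRepresentation.character = F' U.toRepresentation.character := by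
    intro U h1
    have h2 : Subsingleton U.toSubmodule := by
      rw [h1]
      infer_instance
    have h3 : U.toRepresentation.character = 0 := by
      funext t
      change LinearMap.trace ℂ _ (U.toRepresentation t) = 0
      rw [show U.toRepresentation t = 0 from LinearMap.ext fun x => Subsingleton.elim _ _, map_zero]
    rw [h3, h00, h01]
  induction k with
  | zero =>
    intro U hU _
    exact hzero U (Submodule.finrank_eq_zero.1 (Nat.le_zero.1 hU))
  | succ k ih =>
    intro U hU hN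
    by_cases h0 : U.toSubmodule = ⊥
    · exact hzero U h0
    · have : Nontrivial U.toSubmodule := Submodule.nontrivial_iff_ne_bot.mpr h0
      obtain ⟨U₁, hU₁⟩ := exists_irreducible_sub U.toRepresentation
      obtain ⟨U₂, hU₂⟩ := exists_isCompl_sub U₁
      have hpos : 0 < finrank ℂ U₁.toSubmodule := by
        rw [Nat.pos_iff_ne_zero]
        intro h
        have h1 : U₁.toSubmodule = ⊥ := Submodule.finrank_eq_zero.1 h
        obtain ⟨a, b, hab⟩ := (hU₁.1 : Nontrivial (Subrepresentation U₁.toRepresentation))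
        apply hab
        apply Subrepresentation.toSubmodule_injective
        have h2 : Subsingleton U₁.toSubmodule := by
          rw [h1]
          infer_instance
        ext x
        rw [Subsingleton.elim x 0]
        exact ⟨fun _ => Submodule.zero_mem _, fun _ => Submodule.zero_mem _⟩
      have hsum := Submodule.finrank_add_eq_of_isCompl hU₂
      rw [character_eq_add_of_isCompl U₁ U₂ hU₂, hF, hF']
      have e1 : F U₁.toRepresentation.character = F' U₁.toRepresentation.character := by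
        rw [Representation.char_iso (mapSubEquiv U U₁)]
        exact hN _ (mapSub_le U U₁) (isIrreducible_of_equiv (mapSubEquiv U U₁) hU₁)
      have e2 : F U₂.toRepresentation.character = F' U₂.toRepresentation.character := by
        rw [Representation.char_iso (mapSubEquiv U U₂)]
        refine ih _ ?_ fun N hNle hNi => hN N (le_trans hNle (mapSub_le U U₂)) hNi
        rw [finrank_mapSub]
        omega
      rw [e1, e2]

/-- if the fixed vectors of `B` generate `V` then every irreducible subrepresentation has a fixed vector -/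
theorem fx_ne_bot [Finite G] {B : Subgroup G} (hspan : ∀ N : Subrepresentation σ, fx σ B ≤ N.toSubmodule → N.toSubmodule = ⊤)
    (N : Subrepresentation σ) (hN : N.toRepresentation.IsIrreducible) : fx N.toRepresentation B ≠ ⊥ := by
  intro hb
  obtain ⟨N', hN'⟩ := exists_isCompl_sub N
  have h1 : fx σ B ≤ N'.toSubmodule := by
    intro v hv
    obtain ⟨a, ha, b, hb', e⟩ := Submodule.mem_sup.1 (show v ∈ N.toSubmodule ⊔ N'.toSubmodule by
      rw [hN'.sup_eq_top]; exact Submodule.mem_top)
    have h2 : (⟨a, ha⟩ : N.toSubmodule) ∈ fx N.toRepresentation B := by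
      intro x hx
      apply Subtype.ext
      change σ x a = a
      have h3 : σ x a - a ∈ N.toSubmodule := N.toSubmodule.sub_mem (N.apply_mem_toSubmodule x ha) ha
      have h4 : σ x a - a = b - σ x b := by
        have h5 := hv x hx
        rw [← e, map_add] at h5
        rw [sub_eq_sub_iff_add_eq_add, h5, add_comm]
      have h6 : σ x a - a ∈ N'.toSubmodule := by
        rw [h4]
        exact N'.toSubmodule.sub_mem hb' (N'.apply_mem_toSubmodule x hb')
      exact sub_eq_zero.1 ((Submodule.disjoint_def.1 hN'.disjoint) _ h3 h6)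
    rw [hb, Submodule.mem_bot] at h2
    have h3 : a = 0 := congrArg Subtype.val h2
    rw [← e, h3, zero_add]
    exact hb'
  have h2 := hspan N' h1
  have h3 : N.toSubmodule = ⊥ := by
    have := hN'.disjoint
    rw [h2] at this
    exact disjoint_top.1 this
  obtain ⟨a, b, hab⟩ := (hN.1 : Nontrivial (Subrepresentation N.toRepresentation))
  apply hab
  apply Subrepresentation.toSubmodule_injective
  have h4 : Subsingleton N.toSubmodule := by
    rw [h3]
    infer_instance
  ext x
  rw [Subsingleton.elim x 0]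
  exact ⟨fun _ => Submodule.zero_mem _, fun _ => Submodule.zero_mem _⟩

/-- **the certificate theorem** -/
theorem gram [Finite G] (σ : Representation ℂ G V) {ι κ : Type*} [Fintype ι] [DecidableEq ι] [Fintype κ] [DecidableEq κ]
    (P : ι → Subgroup G) (o z : ι) (hz : P z = ⊤)
    (hspan : ∀ N : Subrepresentation σ, fx σ (P o) ≤ N.toSubmodule → N.toSubmodule = ⊤) (g : ι → ι → ℤ)
    (hg : ∀ i j, (Nat.card (DoubleCoset.Quotient (P i : Set G) (P j : Set G)) : ℤ) = g i j) (m : κ → ι → ℤ)
    (hm : ∀ a b, ∑ i, ∑ j, m a i * m b j * g i j = if a = b then 1 else 0)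
    (hms : ∑ a, (∑ i, m a i * g i o) ^ 2 = g o o) (c : ι → ℚ)
    (hc : ∀ j, ∑ i, c i * g i j = if j = z then 1 else 0) {t : G} (ht : ∀ i, i ≠ z → ∀ x, x * t * x⁻¹ ∉ P i) :
    σ.character t = ∑ i, (c i : ℂ) * finrank ℂ (fx σ (P i)) := by
  classical
  let _ : Fintype G := Fintype.ofFinite G
  have h1 := eq_of_irr (σ := σ) (fun χ => χ t) (fun χ => ∑ i, (c i : ℂ) * classInner (pc (P i)) χ) (fun a b => rfl)
    (fun a b => by
      rw [← Finset.sum_add_distrib]
      exact Finset.sum_congr rfl fun i _ => by rw [classInner_add_right, mul_add]) (finrank ℂ V) ⊤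
    (Submodule.finrank_le _) fun N _ hN => by
      refine apply_irr hz hg hm hms hc ht (isIrrCharacter_of_rep _ hN) ?_
      rw [pc_rep]
      intro h
      exact fx_ne_bot hspan N hN (Submodule.finrank_eq_zero.1 (by exact_mod_cast h))
  have h2 : (⊤ : Subrepresentation σ).toRepresentation.character = σ.character := by
    refine Representation.char_iso (Representation.Equiv.mk Submodule.topEquiv fun g => ?_)
    ext x
    rfl
  simp only [h2] at h1
  rw [h1]
  exact Finset.sum_congr rfl fun i _ => by rw [pc_rep]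

end rep

end Cfsg.Agent.H898.VZ
end

-- part: H639/OZ/Dbl
section
/-!
# S4842, toolkit section 6, the root group frame: `P_J` acting on `V^{V_J}` and the double cosets of its parabolic subgroups

* `cw g` : the element `w` with `g ∈ B n_w B`; `exists_dbl_iff`, `card_dbl` : `P_K \ P_J / P_K'` = `W_K \ W_J / W_K'`;
* `sig ρ J` : the representation of `P_J` on `V^{V_J}`; `finrank_fx_sig`, `sig_span`, `char_eq_sig`.
-/

set_option autoImplicit false
set_option linter.unusedSectionVars false

open Cfsg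

namespace Cfsg.Agent.H639.OZ

open CoxeterSystem Cfsg.Agent.ChevalleyStructure.CoxeterGeom Cfsg.Agent.Tits.Roots Cfsg.Agent.Tits.Core
  Cfsg.Agent.Tits.Exchange Cfsg.Agent.Nodes.Reps Cfsg.Agent.Nodes.BNOf Cfsg.Agent.Nodes.StabComb
  Cfsg.Agent.Nodes.Bruhat Cfsg.Agent.Nodes.OppDec Cfsg.Agent.Nodes.LeviDec Cfsg.Agent.H985.VZ Module

universe u v

variable {I W : Type*} {Y : Type u} [Fintype I] [DecidableEq I] [Group W] [Group Y] {M : CoxeterMatrix I}
  {cs : CoxeterSystem M W} {A : I → I → ℤ} {h : IsCartan M A} {p : ℕ} {T : Subgroup Y} {n : I → Y}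
  {X : (I → ℤ) → Subgroup Y}

variable (R : RGD cs h p T n X)

include R

section dbl

variable [Finite W] (hG : GG cs h T X = ⊤)

/-- the cell of `g` -/
noncomputable def cw (g : Y) : W := ((mem_GG R).1 (show g ∈ GG cs h T X by rw [hG]; exact Subgroup.mem_top g)).choose

theorem cell_cw (g : Y) : Cell R.nsys cs h X (cw R hG g) g :=
  ((mem_GG R).1 (show g ∈ GG cs h T X by rw [hG]; exact Subgroup.mem_top g)).choose_spec

theorem cw_eq {w : W} {g : Y} (hg : Cell R.nsys cs h X w g) : cw R hG g = w := Cell.unique R (cell_cw R hG g) hg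

theorem cw_inv (g : Y) : cw R hG g⁻¹ = (cw R hG g)⁻¹ := cw_eq R hG (cell_cw R hG g).inv

theorem mem_PJ_iff_cw {J : Set I} {g : Y} : g ∈ PJ cs h T X J ↔ cw R hG g ∈ WJ cs J :=
  cell_mem_PJ_iff R (cell_cw R hG g)

theorem cw_mul_left {K : Set I} {a : Y} (ha : a ∈ PJ cs h T X K) (g : Y) :
    ∃ v ∈ WJ cs K, cw R hG (a * g) = v * cw R hG g := by
  have key : ∀ ω : List I, (∀ i ∈ ω, i ∈ K) → ∀ a : Y, Cell R.nsys cs h X (cs.wordProd ω) a → ∀ g,
      ∃ v ∈ WJ cs K, cw R hG (a * g) = v * cw R hG g := by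
    intro ω
    induction ω with
    | nil =>
      intro _ a ha g
      rw [wordProd_nil] at ha
      exact ⟨1, one_mem _, by rw [one_mul]; exact cw_eq R hG ((cell_cw R hG g).mul_left ha.mem_of_one)⟩
    | cons i ω ih =>
      intro hω a ha g
      obtain ⟨b₁, hb₁, k, hk, b₂, hb₂, rfl⟩ := ha
      rw [wordProd_cons] at hk
      have h1 : Rp cs R.nsys (cs.wordProd ω) ((n i)⁻¹ * k) := by
        have := (rp_simple cs R.nsys i).inv.mul hk
        rwa [inv_simple, simple_mul_simple_cancel_left] at this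
      obtain ⟨v, hv, h2⟩ := ih (fun j hj => hω j (by simp [hj])) ((n i)⁻¹ * k * b₂)
        ((cell_of_rp h1).mul_right hb₂) g
      have e : b₁ * k * b₂ * g = b₁ * (n i * ((n i)⁻¹ * k * b₂ * g)) := by group
      have h3 := cell_cw R hG ((n i)⁻¹ * k * b₂ * g)
      rw [h2] at h3
      rcases Cell.simple_mul R (cell_of_rp (rp_simple cs R.nsys i)) h3 with h4 | ⟨-, h4⟩
      · refine ⟨cs.simple i * v, mul_mem (simple_mem_WJ cs (hω i (by simp))) hv, ?_⟩
        rw [e]
        have := cw_eq R hG (h4.mul_left hb₁)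
        rw [this, mul_assoc]
      · refine ⟨v, hv, ?_⟩
        rw [e]
        exact cw_eq R hG (h4.mul_left hb₁)
  obtain ⟨w, hw, hc⟩ := (mem_PJ_iff_cell R).1 ha
  obtain ⟨ω, hω, rfl⟩ := exists_word_of_mem_WJ cs hw
  exact key ω hω a hc g

theorem cw_mul_right {K : Set I} {b : Y} (hb : b ∈ PJ cs h T X K) (g : Y) :
    ∃ v ∈ WJ cs K, cw R hG (g * b) = cw R hG g * v := by
  obtain ⟨v, hv, e⟩ := cw_mul_left R hG (inv_mem hb) g⁻¹
  refine ⟨v⁻¹, inv_mem hv, ?_⟩
  have h1 : g * b = (b⁻¹ * g⁻¹)⁻¹ := by group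
  rw [h1, cw_inv, e, cw_inv, mul_inv_rev, inv_inv]

theorem exists_dbl_iff {K K' : Set I} {g g' : Y} :
    (∃ a ∈ PJ cs h T X K, ∃ b ∈ PJ cs h T X K', g' = a * g * b) ↔
      ∃ v ∈ WJ cs K, ∃ w ∈ WJ cs K', cw R hG g' = v * cw R hG g * w := by
  constructor
  · rintro ⟨a, ha, b, hb, rfl⟩
    obtain ⟨v, hv, e1⟩ := cw_mul_left R hG ha g
    obtain ⟨w, hw, e2⟩ := cw_mul_right R hG hb (a * g)
    exact ⟨v, hv, w, hw, by rw [e2, e1]⟩
  · rintro ⟨v, hv, w, hw, e⟩
    obtain ⟨b₁, hb₁, k, hk, b₂, hb₂, e1⟩ := cell_cw R hG g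
    obtain ⟨c₁, hc₁, k', hk', c₂, hc₂, e2⟩ := cell_cw R hG g'
    obtain ⟨x, hx⟩ := exists_rp cs R.nsys v
    obtain ⟨y, hy⟩ := exists_rp cs R.nsys w
    have h1 : Rp cs R.nsys (cw R hG g') (x * k * y) := by
      rw [e]
      exact (hx.mul hk).mul hy
    have ht : (x * k * y)⁻¹ * k' ∈ T := h1.unique hk'
    refine ⟨c₁ * x * b₁⁻¹, mul_mem (mul_mem (B_le_PJ hc₁) (LJ_le_PJ (rp_mem_LJ R hv hx))) (B_le_PJ (inv_mem hb₁)),
      b₂⁻¹ * y * ((x * k * y)⁻¹ * k') * c₂, mul_mem (mul_mem (mul_mem (B_le_PJ (inv_mem hb₂))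
        (LJ_le_PJ (rp_mem_LJ R hw hy))) (B_le_PJ (RGD.T_le_B ht))) (B_le_PJ hc₂), ?_⟩
    rw [e1, e2]
    group

omit R [Finite W] in
theorem PJ_mono' (R : RGD cs h p T n X) [Finite W] {K J : Set I} (hKJ : K ⊆ J) : PJ cs h T X K ≤ PJ cs h T X J := by
  intro g hg
  obtain ⟨w, hw, hc⟩ := (mem_PJ_iff_cell R).1 hg
  exact (mem_PJ_iff_cell R).2 ⟨w, WJ_mono cs hKJ hw, hc⟩

include hG in
/-- **double cosets of parabolic subgroups of `P_J`** -/
theorem card_dbl {J K K' : Set I} (hK : K ⊆ J) (hK' : K' ⊆ J) :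
    Nat.card (DoubleCoset.Quotient (((PJ cs h T X K).subgroupOf (PJ cs h T X J) : Subgroup (PJ cs h T X J)) :
      Set (PJ cs h T X J)) (((PJ cs h T X K').subgroupOf (PJ cs h T X J) : Subgroup (PJ cs h T X J)) :
      Set (PJ cs h T X J))) =
    Nat.card (DoubleCoset.Quotient (((WJ cs K).subgroupOf (WJ cs J) : Subgroup (WJ cs J)) : Set (WJ cs J))
      (((WJ cs K').subgroupOf (WJ cs J) : Subgroup (WJ cs J)) : Set (WJ cs J))) := by
  let f : PJ cs h T X J → WJ cs J := fun g => ⟨cw R hG g, (mem_PJ_iff_cw R hG).1 g.2⟩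
  have hf : ∀ a b : PJ cs h T X J,
      DoubleCoset.setoid (((PJ cs h T X K).subgroupOf (PJ cs h T X J) : Subgroup (PJ cs h T X J)) :
        Set (PJ cs h T X J)) (((PJ cs h T X K').subgroupOf (PJ cs h T X J) : Subgroup (PJ cs h T X J)) :
        Set (PJ cs h T X J)) a b ↔
      DoubleCoset.setoid (((WJ cs K).subgroupOf (WJ cs J) : Subgroup (WJ cs J)) : Set (WJ cs J))
      (((WJ cs K').subgroupOf (WJ cs J) : Subgroup (WJ cs J)) : Set (WJ cs J)) (f a) (f b) := by
    intro a b
    rw [DoubleCoset.rel_iff, DoubleCoset.rel_iff]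
    have h1 := exists_dbl_iff R hG (K := K) (K' := K') (g := (a : Y)) (g' := (b : Y))
    constructor
    · rintro ⟨x, hx, y, hy, e⟩
      obtain ⟨v, hv, w, hw, e1⟩ := h1.1 ⟨x, hx, y, hy, congrArg Subtype.val e⟩
      exact ⟨⟨v, WJ_mono cs hK hv⟩, hv, ⟨w, WJ_mono cs hK' hw⟩, hw, Subtype.ext e1⟩
    · rintro ⟨v, hv, w, hw, e⟩
      obtain ⟨x, hx, y, hy, e1⟩ := h1.2 ⟨v, hv, w, hw, congrArg Subtype.val e⟩
      exact ⟨⟨x, PJ_mono' R hK hx⟩, hx, ⟨y, PJ_mono' R hK' hy⟩, hy, Subtype.ext e1⟩
  refine Nat.card_congr (Equiv.ofBijective (Quotient.map f fun a b h => (hf a b).1 h) ⟨?_, ?_⟩)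
  · intro a b
    induction a using Quotient.inductionOn with
    | _ a =>
    induction b using Quotient.inductionOn with
    | _ b =>
    intro h
    exact Quotient.sound ((hf a b).2 (Quotient.exact h))
  · intro w
    induction w using Quotient.inductionOn with
    | _ w =>
    obtain ⟨g, hg⟩ := exists_rp cs R.nsys (w : W)
    have hgP : g ∈ PJ cs h T X J := LJ_le_PJ (rp_mem_LJ R w.2 hg)
    refine ⟨Quotient.mk _ ⟨g, hgP⟩, ?_⟩
    show Quotient.mk _ (f ⟨g, hgP⟩) = Quotient.mk _ w
    congr 1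
    exact Subtype.ext (cw_eq R hG (cell_of_rp hg))

end dbl

section rep

variable [Finite W] [Finite Y] {V : Type v} [AddCommGroup V] [Module ℂ V] (ρ : Representation ℂ Y V)

/-- `P_J` acts on `V^{V_J}` -/
noncomputable def sig (J : Set I) : Representation ℂ (PJ cs h T X J) (fx ρ (VJ cs h X J)) where
  toFun g := (ρ g).restrict fun _ hv => rho_fx_VJ R g.2 hv
  map_one' := by
    ext v
    rw [LinearMap.coe_restrict_apply]
    simp
  map_mul' a b := by
    ext v
    rw [LinearMap.coe_restrict_apply, Module.End.mul_apply, LinearMap.coe_restrict_apply,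
      LinearMap.coe_restrict_apply, Subgroup.coe_mul, map_mul, Module.End.mul_apply]

theorem mem_fx_sig {J K : Set I} (v : fx ρ (VJ cs h X J)) (hKJ : K ⊆ J) :
    v ∈ fx (sig R ρ J) ((PJ cs h T X K).subgroupOf (PJ cs h T X J)) ↔ (v : V) ∈ fx ρ (PJ cs h T X K) := by
  constructor
  · intro hv x hx
    exact congrArg Subtype.val (hv ⟨x, PJ_mono' R hKJ hx⟩ hx)
  · intro hv x hx
    exact Subtype.ext (hv x hx)

theorem VJ_le_PJ' {J K : Set I} (hKJ : K ⊆ J) : VJ cs h X J ≤ PJ cs h T X K := by
  refine le_trans (RGD.Sup_mono fun x hx => ?_) (VJ_le_PJ (J := K))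
  obtain ⟨h1, h2, k, hk, hk0⟩ := hx
  exact ⟨h1, h2, k, fun hkK => hk (hKJ hkK), hk0⟩

theorem finrank_fx_sig {J K : Set I} (hKJ : K ⊆ J) :
    finrank ℂ (fx (sig R ρ J) ((PJ cs h T X K).subgroupOf (PJ cs h T X J))) = finrank ℂ (fx ρ (PJ cs h T X K)) := by
  have h1 : (fx (sig R ρ J) ((PJ cs h T X K).subgroupOf (PJ cs h T X J))).map (fx ρ (VJ cs h X J)).subtype =
      fx ρ (PJ cs h T X K) := by
    ext v
    constructor
    · rintro ⟨w, hw, rfl⟩
      exact (mem_fx_sig R ρ w hKJ).1 hw
    · intro hv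
      exact ⟨⟨v, fx_mono (VJ_le_PJ' R hKJ) hv⟩, (mem_fx_sig R ρ _ hKJ).2 hv, rfl⟩
  rw [← h1]
  exact (Submodule.finrank_map_subtype_eq _ _).symm

theorem PJ_empty : PJ cs h T X (∅ : Set I) = RGD.B cs h T X := by
  apply le_antisymm _ B_le_PJ
  intro g hg
  obtain ⟨w, hw, hc⟩ := (mem_PJ_iff_cell R).1 hg
  have h1 : w = 1 := by
    obtain ⟨ω, hω, rfl⟩ := exists_word_of_mem_WJ cs hw
    have : ω = [] := List.eq_nil_iff_forall_not_mem.2 fun i hi => hω i hi
    rw [this, wordProd_nil]
  rw [h1] at hc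
  exact hc.mem_of_one

variable {ρ}

/-- `V^{V_J}` is generated by `V^B` under `P_J` -/
theorem sig_span (hG : GG cs h T X = ⊤) (hρ : ρ.IsIrreducible) (h0 : VU cs h X ρ ≠ ⊥)
    (hUB : VU cs h X ρ ≤ fx ρ (RGD.B cs h T X)) (J : Set I) (N : Subrepresentation (sig R ρ J))
    (hN : fx (sig R ρ J) ((PJ cs h T X ∅).subgroupOf (PJ cs h T X J)) ≤ N.toSubmodule) : N.toSubmodule = ⊤ := by
  have h1 := gen_VJ R hG hρ h0 J (S := N.toSubmodule.map (fx ρ (VJ cs h X J)).subtype) (by
    intro g hg v hv
    have hvJ : v ∈ fx ρ (VJ cs h X J) := fx_mono (VJ_le_U J) hv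
    have hvB : (⟨v, hvJ⟩ : fx ρ (VJ cs h X J)) ∈
        fx (sig R ρ J) ((PJ cs h T X ∅).subgroupOf (PJ cs h T X J)) := by
      rw [mem_fx_sig R ρ _ (Set.empty_subset J), PJ_empty R]
      exact hUB hv
    exact ⟨sig R ρ J ⟨g, hg⟩ ⟨v, hvJ⟩, N.apply_mem_toSubmodule _ (hN hvB), rfl⟩)
  rw [eq_top_iff]
  rintro ⟨v, hv⟩ -
  obtain ⟨w, hw, e⟩ := h1 hv
  have : w = ⟨v, hv⟩ := Subtype.ext e
  rwa [← this]

variable [FiniteDimensional ℂ V]

/-- the value at a free element -/
theorem char_eq_sig {J : Set I} {t : Y} (ht : Free cs h T X J t) :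
    ρ.character t = (sig R ρ J).character ⟨t, LJ_le_PJ ht.mem⟩ := by
  have hf : ∀ v, (ρ t * av ρ (VJ cs h X J)) v ∈ fx ρ (VJ cs h X J) := fun v =>
    rho_fx_VJ R (LJ_le_PJ ht.mem) (av_mem ρ _ v)
  rw [ht.trace_eq R, ← LinearMap.trace_restrict_eq_of_forall_mem (fx ρ (VJ cs h X J)) _ hf]
  change LinearMap.trace ℂ _ _ = LinearMap.trace ℂ _ _
  congr 1
  ext v
  rw [LinearMap.coe_restrict_apply, Module.End.mul_apply, av_of_mem v.2]
  rfl

end rep

end Cfsg.Agent.H639.OZ
end
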